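import Groth.Agent.Sga4h.Refl
import Groth.Agent.PerfA.ExactD

/-!
# The cohomology objects of the dual of an object (abstract form)
-/

set_option autoImplicit false
set_option backward.defeqAttrib.useBackward true
set_option backward.isDefEq.respectTransparency false

universe v₁ v₂ u₁ u₂

namespace Groth.Agent.Sga5.H839.DualE

open CategoryTheory Category Limits HomologicalComplex CochainComplex Opposite ZeroObject
open Groth.Agent.Sga4h.Refl

variable {C : Type u₁} [Category.{v₁} C] [Abelian C] {T : C ⥤ C ⥤ C} [T.Additive] [∀ X, (T.obj X).Additive]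
  [∀ (K₁ K₂ : CochainComplex C ℤ), CochainComplex.HasMapBifunctor K₁ K₂ T]
  [∀ E : CochainComplex C ℤ, (T.map₂CochainComplex.flip.obj E).IsLeftAdjoint]

/-- The cohomology objects of the dual of an object. -/
noncomputable def E (A : DualData T) (F : C) (q : ℤ) : C :=
  (A.D ((CochainComplex.singleFunctor C 0).obj F)).homology q

theorem E_eq (A : DualData T) (F : C) (q : ℤ) :
    E A F q = (A.D ((CochainComplex.singleFunctor C 0).obj F)).homology q := rfl

/-- Isomorphic complexes have duals with isomorphic cohomology. -/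
theorem nonempty_iso_of_iso (A : DualData T) {K L : CochainComplex C ℤ} (e : K ≅ L) (q : ℤ) :
    Nonempty ((A.D K).homology q ≅ (A.D L).homology q) :=
  ⟨(HomologicalComplex.homologyFunctor _ _ q).mapIso (A.F.mapIso e.symm.op)⟩

/-- Retracts. -/
theorem exists_retract (A : DualData T) {F G : C} (i : F ⟶ G) (r : G ⟶ F) (h : i ≫ r = 𝟙 F) (q : ℤ) :
    ∃ (a : E A F q ⟶ E A G q) (b : E A G q ⟶ E A F q), a ≫ b = 𝟙 _ := by
  refine ⟨HomologicalComplex.homologyMap (A.Dmap ((CochainComplex.singleFunctor C 0).map r)) q,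
    HomologicalComplex.homologyMap (A.Dmap ((CochainComplex.singleFunctor C 0).map i)) q, ?_⟩
  rw [← HomologicalComplex.homologyMap_comp, ← DualData.Dmap_comp, ← Functor.map_comp, h,
    CategoryTheory.Functor.map_id, DualData.Dmap_id, HomologicalComplex.homologyMap_id]
  rfl

section Map

variable {C' : Type u₂} [Category.{v₂} C'] [Abelian C'] {T' : C' ⥤ C' ⥤ C'} [T'.Additive] [∀ X, (T'.obj X).Additive]
  [∀ (K₁ K₂ : CochainComplex C' ℤ), CochainComplex.HasMapBifunctor K₁ K₂ T']
  [∀ E : CochainComplex C' ℤ, (T'.map₂CochainComplex.flip.obj E).IsLeftAdjoint]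
  (a : C ⥤ C') [a.Additive]

/-- The image of an object in degree zero. -/
theorem nonempty_iso_map (A' : DualData T') (F : C) (F' : C') (e : a.obj F ≅ F') (q : ℤ) :
    Nonempty ((A'.D ((a.mapHomologicalComplex (ComplexShape.up ℤ)).obj
      ((CochainComplex.singleFunctor C 0).obj F))).homology q ≅ E A' F' q) :=
  nonempty_iso_of_iso A' ((HomologicalComplex.singleMapHomologicalComplex a (ComplexShape.up ℤ) 0).app F ≪≫
    (CochainComplex.singleFunctor C' 0).mapIso e) q

/-- Comparison of duals: pullback of the cohomology. -/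
theorem nonempty_iso_of_quasiIso [PreservesFiniteLimits a] [PreservesFiniteColimits a] (A : DualData T)
    (A' : DualData T') (F : C) (F' : C') (e : a.obj F ≅ F')
    (f : (a.mapHomologicalComplex (ComplexShape.up ℤ)).obj (A.D ((CochainComplex.singleFunctor C 0).obj F)) ⟶
      A'.D ((a.mapHomologicalComplex (ComplexShape.up ℤ)).obj ((CochainComplex.singleFunctor C 0).obj F)))
    (hf : QuasiIso f) (q : ℤ) : Nonempty (a.obj (E A F q) ≅ E A' F' q) := by
  obtain ⟨e'⟩ := nonempty_iso_map a A' F F' e q
  exact ⟨((PerfA.ExactD.mapCxHomology a (ComplexShape.up ℤ) q).app _).symm ≪≫ isoOfQuasiIsoAt f q ≪≫ e'⟩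

end Map

end Groth.Agent.Sga5.H839.DualE
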