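import Groth.Agent.Sga4h.BidBddEt
import Groth.Agent.Sga4h.BidRed538Main
import Groth.Agent.Sga5.H839.DualE

/-!
# The cohomology sheaves of the dual of a sheaf are the local `Ext` sheaves; injective dimension
-/

set_option autoImplicit false

universe u

open CategoryTheory CategoryTheory.Limits AlgebraicGeometry Opposite

attribute [local instance 5000] CategoryTheory.Abelian.toPreadditive
  CategoryTheory.Preadditive.preadditiveHasZeroMorphisms

namespace Groth.Agent.Sga5.H839.EExt

attribute [local instance] HasDerivedCategory.standard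
open scoped Groth.Agent.Sga4h.ModInst
open Groth.Agent.Sga4h Groth.Agent.Sga4h.Refl DerivedCategory Groth.Agent.Sga4h.BidRed538Main

variable {Λ : Type (u + 1)} [CommRing Λ]

/-- `E F i` is the sheaf `Ext^i(F, Λ)`. -/
theorem nonempty_iso {X : Scheme.{u}} (F : EtModW.Mod Λ X) [EtModD.HasSheafHom F] (i : ℕ) (m : ℤ) (hm : (i : ℤ) = m) :
    Nonempty (DualE.E (stdDual Λ X) F m ≅ (EtModD.extSheaf F i).obj (EtModW.constMod Λ X Λ)) := by
  have h := DualQ.nonempty_homologyDSingle (stdJ Λ X) (isKInjective_stdJ Λ X) (injective_stdJ Λ X) (stdι Λ X)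
    (quasiIso_stdι Λ X) F i m hm
  rw [DualE.E_eq (stdDual Λ X) F m]
  exact h

/-- The cohomology of the dual of a sheaf from the injective dimension. -/
theorem isZero_E_of_injDim {X : Scheme.{u}} (N : ℕ)
    (hN : HasInjectiveDimensionLT (EtModW.constMod Λ X Λ) (N + 1)) (F : EtModW.Mod Λ X) (q : ℤ)
    (hq : (N : ℤ) < q) : IsZero (DualE.E (stdDual Λ X) F q) := by
  have h1 : (Q.obj ((stdDual Λ X).D ((CochainComplex.singleFunctor (EtModW.Mod Λ X) 0).obj F))).IsLE (N - 0) :=
    BidBddEt.isLE_D (stdJ Λ X) (isKInjective_stdJ Λ X) (injective_stdJ Λ X) (EtModW.constMod Λ X Λ)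
      (asIso (Q.map (stdι Λ X))).symm N hN _ 0 inferInstance
  have h2 : ((stdDual Λ X).D ((CochainComplex.singleFunctor (EtModW.Mod Λ X) 0).obj F)).IsLE (N - 0) := by
    rwa [← DerivedCategory.isLE_Q_obj_iff]
  rw [DualE.E_eq (stdDual Λ X) F q]
  exact (((stdDual Λ X).D ((CochainComplex.singleFunctor (EtModW.Mod Λ X) 0).obj F)).exactAt_of_isLE
    (N - 0) q (by lia)).isZero_homology

end Groth.Agent.Sga5.H839.EExt
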