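import Groth.Agent.Sga4h.BidGeoCmp
import Groth.Agent.Desc.DimMap
import Groth.Agent.Desc.LQF
import Groth.Agent.VarietyB.DimSch
import Groth.Agent.UnramA.SmoothFibreDim

/-!
# Dimension of local rings: limits of etale schemes, iterated projective lines

* `coheight_le_of_isEtLim`: for `g : Y ⟶ X` a cofiltered limit of affine etale schemes, the codimension of `y` is at
  most the codimension of `g y`;
* `coheight_apply_le_of_flat`: for `g` flat, the codimension of `g y` is at most the codimension of `y`;
* `le_coheight_of_isClosed`: closed points of the `d`-fold iterated projective line over a field have codimension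
  at least `d`.
-/

set_option autoImplicit false

universe u

open CategoryTheory CategoryTheory.Limits AlgebraicGeometry

namespace Groth.Agent.Sga5.H839.DimLim

open Groth.Agent.Sga4h.BidGeoLim Groth.Agent.Sga4h.BidGeoIt

/-- A morphism without proper specializations in its fibres does not decrease the codimension. -/
theorem coheight_le_of_fibres {Y X : Scheme.{u}} (g : Y ⟶ X) (h : ∀ a b : Y, a ⤳ b → g a = g b → a = b) (y : Y) :
    Order.coheight y ≤ Order.coheight (g y) := by
  refine Order.coheight_le_coheight_apply_of_strictMono (f := g) ?_ y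
  intro a b hab
  have h1 : b ⤳ a := hab.le
  have h3 : g b ⤳ g a := h1.map g.continuous
  refine lt_iff_le_not_ge.2 ⟨h3, ?_⟩
  intro h2
  have h4 : g a ⤳ g b := h2
  have h5 : b = a := h b a h1 (h3.antisymm h4).eq
  rw [h5] at hab
  exact lt_irrefl a hab

/-- A generalizing morphism does not increase the codimension. -/
theorem coheight_apply_le {Y X : Scheme.{u}} (g : Y ⟶ X) (h : GeneralizingMap g) (y : Y) :
    Order.coheight (g y) ≤ Order.coheight y :=
  Desc.DimMap.coheight_le_of_generalizingMap g g.continuous h y

/-- Points of a cofiltered limit with affine transition maps are determined by their images. -/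
theorem eq_of_forall_π {I : Type u} [SmallCategory I] [IsCofiltered I] {D : I ⥤ Scheme.{u}}
    (hD : ∀ (i j : I) (f : i ⟶ j), IsAffineHom (D.map f)) {c : Cone D} (hc : IsLimit c) {a b : c.pt}
    (hab : ∀ i, c.π.app i a = c.π.app i b) : a = b := by
  have hD' : ∀ {i j : I} (f : i ⟶ j), IsAffineHom (D.map f) := fun {i j} f => hD i j f
  have hB := isBasis_preimage_isAffineOpen D c hc
  by_contra hne
  have key : ∀ x y : c.pt, (∀ i, c.π.app i x = c.π.app i y) → x ⤳ y := by
    intro x y hxy
    rw [specializes_iff_forall_open]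
    intro s hs hy
    obtain ⟨_, ⟨i, V, hV, rfl⟩, hyV, hVs⟩ := TopologicalSpace.Opens.isBasis_iff_nbhd.1 hB (U := ⟨s, hs⟩) hy
    apply hVs
    change c.π.app i x ∈ V
    rw [hxy i]
    exact hyV
  exact hne ((key a b hab).antisymm (key b a fun i => (hab i).symm)).eq

/-- A cofiltered limit of affine etale schemes has no proper specializations in its fibres. -/
theorem eq_of_specializes {Y X : Scheme.{u}} {g : Y ⟶ X} (hg : IsEtLim g) (a b : Y) (h : a ⤳ b)
    (h' : g a = g b) : a = b := by
  obtain ⟨I, _, _, D, t, c, e, ⟨hc⟩, het, haff, htr, hq⟩ := hg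
  have h0 : e.hom a = e.hom b := by
    refine eq_of_forall_π htr hc fun i => ?_
    have h1 : c.π.app i (e.hom a) ⤳ c.π.app i (e.hom b) :=
      (h.map e.hom.continuous).map (c.π.app i).continuous
    have h2 : t.app i (c.π.app i (e.hom a)) = t.app i (c.π.app i (e.hom b)) := by
      have h3 : ∀ z : Y, t.app i (c.π.app i (e.hom z)) = g z := fun z =>
        congrArg (fun (q : Y ⟶ X) => q z) (hq i)
      rw [h3, h3, h']
    have := het i
    have : LocallyQuasiFinite (t.app i) := Desc.LQF.of_etale _
    have h4 := (t.app i).isDiscrete_preimage_singleton (t.app i (c.π.app i (e.hom b)))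
    have h5 : DiscreteTopology ((t.app i) ⁻¹' {t.app i (c.π.app i (e.hom b))}) := h4.to_subtype
    have h6 : (⟨c.π.app i (e.hom a), h2⟩ : (t.app i) ⁻¹' {t.app i (c.π.app i (e.hom b))}) ⤳
        ⟨c.π.app i (e.hom b), rfl⟩ := (Topology.IsInducing.subtypeVal.specializes_iff).mp h1
    exact congrArg Subtype.val h6.eq
  have h1 := congrArg e.inv h0
  have h3 : ∀ w, e.inv (e.hom w) = w := fun w => congrArg (fun f : Y ⟶ _ => f w) e.hom_inv_id
  rwa [h3, h3] at h1

/-- For a cofiltered limit of affine etale schemes, the codimension of `y` is at most that of `g y`. -/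
theorem coheight_le_of_isEtLim {Y X : Scheme.{u}} {g : Y ⟶ X} (hg : IsEtLim g) (y : Y) :
    Order.coheight y ≤ Order.coheight (g y) :=
  coheight_le_of_fibres g (eq_of_specializes hg) y

/-- Closed points of the iterated projective line over a field. -/
theorem le_coheight_of_isClosed (k : Type u) [Field k] (d : ℕ) (y : It (Spec (CommRingCat.of k)) d)
    (hy : IsClosed ({y} : Set (It (Spec (CommRingCat.of k)) d))) : (d : ℕ∞) ≤ Order.coheight y := by
  let _ : (It (Spec (CommRingCat.of k)) d).Over (Spec (CommRingCat.of k)) := ⟨str _ d⟩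
  have h1 : FlatMor.localDim (It (Spec (CommRingCat.of k)) d) y = d :=
    UnramA.SmoothFibreDim.localDim_eq d (str (Spec (CommRingCat.of k)) d) y
  have hp : IsProper (str (Spec (CommRingCat.of k)) d) := isProper_str _ _
  have : LocallyOfFiniteType (It (Spec (CommRingCat.of k)) d ↘ Spec (CommRingCat.of k)) :=
    inferInstanceAs (LocallyOfFiniteType (str (Spec (CommRingCat.of k)) d))
  have h2 := VarietyB.DimSch.localDim_eq k y
  rw [VarietyB.DimSch.trd_eq_zero_of_isClosed k hy, h1, ringKrullDim_stalk_eq_coheight] at h2
  have h3 : ((d : ℕ∞) : WithBot ℕ∞) = (Order.coheight y : WithBot ℕ∞) := by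
    rw [Nat.cast_zero, add_zero] at h2
    exact h2
  exact (WithBot.coe_inj.1 h3).le

end Groth.Agent.Sga5.H839.DimLim
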