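import Groth.Agent.Etcore.LPull
import Groth.Agent.Etrest.ModGerm

/-!
# Sheaves of modules on the small etale site: vanishing of all germs at a point of the scheme

`VanAt F x`: all germs of `F` at (geometric points above) `x` vanish.

* `VanAt.of_retract`, `VanAt.of_iso`, `vanAt_of_isZero`;
* `VanAt.isZero_stalk`: the stalk at a geometric point centred at `x` is zero;
* `VanAt.pull`, `vanAt_of_pull`: inverse images.
-/

set_option autoImplicit false
universe u

open CategoryTheory CategoryTheory.Limits AlgebraicGeometry Opposite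

namespace Groth.Agent.Sga5.H839.Germs

open Groth.Agent.Etcore

variable {Λ : Type (u + 1)} [CommRing Λ] {X : Scheme.{u}}

/-- All germs of `F` at the point `x` vanish. -/
def VanAt (F : EtModW.Mod Λ X) (x : X) : Prop :=
  ∀ (U : X.Etale) (s : EtModW.sect Λ F U) (u : U.left), U.hom u = x → LVan.Van F s u

theorem VanAt.of_retract {F G : EtModW.Mod Λ X} {x : X} (hG : VanAt G x) (i : F ⟶ G) (r : G ⟶ F)
    (h : i ≫ r = 𝟙 F) : VanAt F x := by
  intro U s u hu
  have h1 := (hG U (LVan.ev i U s) u hu).map r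
  have h2 : LVan.ev r U (LVan.ev i U s) = s := by
    have h3 := congrArg (fun (α : F ⟶ F) => LVan.ev α U s) h
    exact h3
  rwa [h2] at h1

theorem VanAt.of_iso {F G : EtModW.Mod Λ X} {x : X} (hG : VanAt G x) (e : F ≅ G) : VanAt F x :=
  hG.of_retract e.hom e.inv e.hom_inv_id

theorem vanAt_of_isZero {F : EtModW.Mod Λ X} (hF : IsZero F) (x : X) : VanAt F x := by
  intro U s u _
  refine LVan.van_zero_of_eq ?_ u
  have h1 : (𝟙 F : F ⟶ F) = 0 := (IsZero.iff_id_eq_zero _).1 hF
  exact congrArg (fun (α : F ⟶ F) => LVan.ev α U s) h1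

/-- A sheaf is zero if all its germs at all points vanish. -/
theorem isZero_of_vanAt (F : EtModW.Mod Λ X) (h : ∀ x : X, VanAt F x) : IsZero F := by
  rw [IsZero.iff_id_eq_zero]
  ext U s
  have key : ∀ t : EtModW.sect Λ F U.unop, t = 0 := fun t =>
    LVan.eq_zero_of_van t fun u => h _ U.unop t u rfl
  exact (key _).trans (key _).symm

/-- The stalk at a geometric point centred at `x` is zero. -/
theorem VanAt.isZero_stalk {F : EtModW.Mod Λ X} {x : X} (hF : VanAt F x) {Ω : Type u} [Field Ω]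
    [IsSepClosed Ω] (ξ : Spec (CommRingCat.of Ω) ⟶ X) (hξ : ξ default = x) :
    IsZero ((EtModW.stalk Λ ξ).obj F) := by
  have key : ∀ a : ((EtModW.stalk Λ ξ).obj F : Type (u + 1)), a = 0 := by
    intro a
    obtain ⟨U, t, s, rfl⟩ := Etrest.ModGerm.germ_surj Λ ξ F a
    have h0 : U.hom (EtpbcA.Germ.pt ξ t) = x := (EtpbcA.Germ.hom_pt ξ t).trans hξ
    obtain ⟨V, g, v, hv, hs⟩ := hF U s (EtpbcA.Germ.pt ξ t) h0
    obtain ⟨t', ht', -⟩ := EtpbcA.Germ.exists_lift ξ g t v hv
    exact (Etrest.ModGerm.germ_eq_zero_iff Λ ξ F t s).2 ⟨V, g, t', ht', hs⟩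
  have : Subsingleton ((EtModW.stalk Λ ξ).obj F : Type (u + 1)) :=
    ⟨fun a b => (key a).trans (key b).symm⟩
  exact ModuleCat.isZero_of_subsingleton _

variable {Y : Scheme.{u}}

/-- If the germs of the inverse image vanish at `y`, the germs of `F` vanish at the image of `y`. -/
theorem vanAt_of_pull (f : Y ⟶ X) (F : EtModW.Mod Λ X) (y : Y)
    (h : VanAt ((EtModW.pull Λ f).obj F) y) : VanAt F (f y) := by
  intro U s u hu
  obtain ⟨z, hz1, hz2⟩ := Scheme.Pullback.exists_preimage_pullback (f := U.hom) (g := f) u y hu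
  let z' : ((EtCoh.bc f).obj U).left := z
  have h0 : ((EtCoh.bc f).obj U).hom z' = y := hz2
  have h3 : LVan.Van ((EtModW.pull Λ f).obj F) (LPull.eta f F U s) z' := h _ _ z' h0
  have h5 := (LPull.van_eta_iff f F s z').1 h3
  have h4 : EtpbcA.ConsPull.fstBc f U z' = u := hz1
  rwa [h4] at h5

/-- If the germs of `F` vanish at the image of `y`, the germs of the inverse image vanish at `y`. -/
theorem VanAt.pull (f : Y ⟶ X) {F : EtModW.Mod Λ X} {y : Y} (h : VanAt F (f y)) :
    VanAt ((EtModW.pull Λ f).obj F) y := by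
  intro V t v hv
  obtain ⟨U, s, W, a, b, w, hw, hab⟩ := LPull.exists_eta f F t v
  have h0 : U.hom (EtpbcA.ConsPull.fstBc f U (b.left w)) = f y := by
    have h1 : EtpbcA.ConsPull.fstBc f U ≫ U.hom = ((EtCoh.bc f).obj U).hom ≫ f := pullback.condition
    have h2 := congrArg (fun (q : ((EtCoh.bc f).obj U).left ⟶ X) => q (b.left w)) h1
    refine Eq.trans h2 ?_
    change f (((EtCoh.bc f).obj U).hom (b.left w)) = f y
    have h3 : ((EtCoh.bc f).obj U).hom (b.left w) = y := by
      have h4 : b.left ≫ ((EtCoh.bc f).obj U).hom = W.hom := Over.w b.hom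
      have h5 : a.left ≫ V.hom = W.hom := Over.w a.hom
      have h6 := congrArg (fun (q : W.left ⟶ Y) => q w) (h4.trans h5.symm)
      refine Eq.trans h6 ?_
      change V.hom (a.left w) = y
      rw [hw, hv]
    rw [h3]
  have h1 := (LPull.van_eta_iff f F s (b.left w)).2 (h U s _ h0)
  have h2 := h1.res b w
  rw [← hab] at h2
  have h3 := h2.of_res a w
  rwa [hw] at h3

end Groth.Agent.Sga5.H839.Germs
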