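import Groth.Agent.Sga5.H839.ELoc
import Groth.Agent.Sga5.H839.Germs
import Groth.Agent.Sga5.H839.DimLim

/-!
# Vanishing of the germs of the local `Ext` sheaves into the constant sheaf on iterated projective lines

`vanE_It`: if the duals on the iterated projective lines of dimension `d` over separably closed fields vanish in
degrees `> 2d`, then the germs of `H^q(RHom(F, Λ))` at `y` vanish for `q > 2 codim y`, on iterated projective lines over all
fields.
-/

set_option autoImplicit false

universe u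

open CategoryTheory CategoryTheory.Limits AlgebraicGeometry Opposite

attribute [local instance 5000] CategoryTheory.Abelian.toPreadditive
  CategoryTheory.Preadditive.preadditiveHasZeroMorphisms

namespace Groth.Agent.Sga5.H839.ItVan

open scoped Groth.Agent.Sga4h.ModInst

open Groth.Agent.Sga4h Groth.Agent.Sga4h.BidGeoIt Groth.Agent.Sga4h.BidGeoLim Groth.Agent.Sga5.H839.Germs
open Groth.Agent.Sga5.H839.DimLim Groth.Agent.Sga4h.BidRed538Main Groth.Agent.Sga5.H839.DualE

variable {Λ : Type (u + 1)} [CommRing Λ]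

/-- All germs of `H^q(RHom(F, Λ))` at `x` vanish. -/
structure VanE {X : Scheme.{u}} (F : EtModW.Mod Λ X) (q : ℤ) (x : X) : Prop where
  out : VanAt (E (stdDual Λ X) F q) x

/-- The sheaf `H^q(RHom(F, Λ))` is zero. -/
structure ZeroE {X : Scheme.{u}} (F : EtModW.Mod Λ X) (q : ℤ) : Prop where
  out : IsZero (E (stdDual Λ X) F q)

theorem ZeroE.vanE {X : Scheme.{u}} {F : EtModW.Mod Λ X} {q : ℤ} (h : ZeroE F q) (x : X) : VanE F q x :=
  ⟨vanAt_of_isZero h.out x⟩

/-- Retracts. -/
theorem VanE.of_retract {X : Scheme.{u}} {F G : EtModW.Mod Λ X} (i : F ⟶ G) (r : G ⟶ F) (h : i ≫ r = 𝟙 F) (q : ℤ)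
    {x : X} (hG : VanE G q x) : VanE F q x := by
  obtain ⟨a, b, hab⟩ := DualE.exists_retract (stdDual Λ X) i r h q
  exact ⟨hG.out.of_retract a b hab⟩

/-- Isomorphic sheaves. -/
theorem VanE.of_iso {X : Scheme.{u}} {F G : EtModW.Mod Λ X} (e : F ≅ G) (q : ℤ)
    {x : X} (hG : VanE G q x) : VanE F q x :=
  VanE.of_retract e.hom e.inv e.hom_inv_id q hG

/-- Vanishing of germs along cofiltered limits of affine etale schemes. -/
theorem VanE.of_isEtLim [IsNoetherianRing Λ] {X Y : Scheme.{u}} [IsNoetherian X] (g : Y ⟶ X) (hg : IsEtLim g)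
    (F : EtModW.Mod Λ X) (hF : EtModW.IsConstructible Λ F) (y : Y) (q : ℤ)
    (h : VanE ((EtModW.pull Λ g).obj F) q y) : VanE F q (g y) := by
  obtain ⟨e⟩ := ELoc.nonempty_iso g hg F hF q
  exact ⟨vanAt_of_pull g _ y (h.out.of_iso e)⟩

theorem isNoetherian_It (k : Type u) [Field k] (d : ℕ) : IsNoetherian (It (Spec (CommRingCat.of k)) d) := by
  have hp : IsProper (str (Spec (CommRingCat.of k)) d) := isProper_str _ _
  exact CurvesA.ClosedPtSep.isNoetherian (str (Spec (CommRingCat.of k)) d)

section It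

variable {m : ℕ}
  (hSD : ∀ (k : Type u) [Field k] [IsSepClosed k], (m : k) ≠ 0 → ∀ (d : ℕ)
    (F : EtModW.Mod Λ (It (Spec (CommRingCat.of k)) d)) (q : ℤ), 2 * (d : ℤ) < q → ZeroE F q)

include hSD

theorem vanE_It_sep [IsNoetherianRing Λ] (N : ℕ) : ∀ (k : Type u) [Field k] [IsSepClosed k], (m : k) ≠ 0 →
    ∀ (F : EtModW.Mod Λ (It (Spec (CommRingCat.of k)) N)), EtModW.IsConstructible Λ F →
    ∀ (y : It (Spec (CommRingCat.of k)) N) (c : ℕ), Order.coheight y ≤ c → ∀ q : ℤ, 2 * (c : ℤ) < q →
    VanE F q y := by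
  induction N with
  | zero =>
    intro k _ _ hk F hF y c hc q hq
    exact (hSD k hk 0 F q (by push_cast; lia)).vanE y
  | succ N ih =>
    intro k _ _ hk F hF y c hc q hq
    by_cases hy : IsClosed ({y} : Set (It (Spec (CommRingCat.of k)) (N + 1)))
    · have h1 := le_coheight_of_isClosed k (N + 1) y hy
      have h2 : N + 1 ≤ c := by exact_mod_cast h1.trans hc
      exact (hSD k hk (N + 1) F q (by push_cast; lia)).vanE y
    · obtain ⟨κ, _, _, φ, hφ⟩ := exists_family k
      obtain ⟨r, g, hg1, hg2, hg3⟩ := hφ N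
      obtain ⟨i, y', rfl⟩ : ∃ i, y ∈ Set.range (g i) := by
        by_contra h
        exact hy (hg3 y fun i hi => h ⟨i, hi⟩)
      have hκ : (m : κ) ≠ 0 := by
        intro h
        apply hk
        apply φ.injective
        rw [map_natCast, h, map_zero]
      have hN := isNoetherian_It k (N + 1)
      exact VanE.of_isEtLim (g i) (hg1 i) F hF y' q
        (ih κ hκ _ (Etcore.LCrit.isConstructible_pull (g i) F hF) y' c
          ((coheight_le_of_isEtLim (hg1 i) y').trans hc) q hq)

/-- The germs of `E F q` vanish at `y` for `q > 2 codim y`, on iterated projective lines over fields. -/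
theorem vanE_It [IsNoetherianRing Λ] (N : ℕ) (k : Type u) [Field k] (hk : (m : k) ≠ 0)
    (F : EtModW.Mod Λ (It (Spec (CommRingCat.of k)) N)) (hF : EtModW.IsConstructible Λ F)
    (y : It (Spec (CommRingCat.of k)) N) (c : ℕ) (hc : Order.coheight y ≤ c) (q : ℤ) (hq : 2 * (c : ℤ) < q) :
    VanE F q y := by
  let κ := SeparableClosure k
  let f : Spec (CommRingCat.of κ) ⟶ Spec (CommRingCat.of k) := Pi1A.FGLimit.toBase k κ
  have hf : IsEtLim f := isEtLim_toBase k k κ
  have sq := isPullback_itMap f N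
  have hg : IsEtLim (itMap f N) := by
    have h2 := (hf.pullback (str (Spec (CommRingCat.of k)) N)).iso_comp sq.isoPullback
    rwa [sq.isoPullback_hom_fst] at h2
  have hsf : Surjective f := by
    constructor
    intro y
    have : Nonempty (PrimeSpectrum κ) := inferInstance
    obtain ⟨x⟩ := this
    exact ⟨x, Subsingleton.elim (α := PrimeSpectrum k) _ _⟩
  have hs : Surjective (itMap f N) := MorphismProperty.of_isPullback (P := @Surjective) sq.flip hsf
  obtain ⟨y', rfl⟩ := hs.surj y
  have hN := isNoetherian_It k N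
  have hκ : (m : κ) ≠ 0 := by
    intro h
    apply hk
    apply (algebraMap k κ).injective
    rw [map_natCast, h, map_zero]
  exact VanE.of_isEtLim (itMap f N) hg F hF y' q
    (vanE_It_sep hSD N κ hκ _ (Etcore.LCrit.isConstructible_pull (itMap f N) F hF) y' c
      ((coheight_le_of_isEtLim hg y').trans hc) q hq)

end It

end Groth.Agent.Sga5.H839.ItVan
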