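import Groth.Agent.Sga4h.BidGlobHSD
import Groth.Agent.Sga5.H839.EExt
import Groth.Agent.Sga5.H839.ItVan

/-!
# The dual of a sheaf on the `d`-dimensional iterated projective line over a separably closed field

`zeroE`: `H^q(RHom(F, Z/m)) = 0` for `q > 2d`, for all sheaves `F`.
-/

set_option autoImplicit false

universe u

open CategoryTheory CategoryTheory.Limits CategoryTheory.Abelian AlgebraicGeometry Opposite

attribute [local instance 5000] CategoryTheory.Abelian.toPreadditive
  CategoryTheory.Preadditive.preadditiveHasZeroMorphisms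

namespace Groth.Agent.Sga5.H839.ItBd

open scoped Groth.Agent.Sga4h.ModInst

open Groth.Agent.Sga4h Groth.Agent.Sga4h.BidGeoIt Groth.Agent.Sga4h.BidRed538Main Groth.Agent.Sga5.H839.DualE
open Groth.Agent.Sga5.H839.ItVan

/-- `Λ = Z/m` has injective dimension at most `2d` on the `d`-dimensional iterated projective line over a separably
closed field. -/
theorem injDim {m : ℕ} (k : Type u) [Field k] [IsSepClosed k] (hk : (m : k) ≠ 0) (d : ℕ) :
    HasInjectiveDimensionLT (EtModW.constMod (ULift.{u + 1} (ZMod m)) (It (Spec (CommRingCat.of k)) d)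
      (ULift.{u + 1} (ZMod m))) (2 * d + 1) := by
  have hk' : (m : AlgebraicClosure k) ≠ 0 := by
    intro h0
    apply hk
    apply (algebraMap k (AlgebraicClosure k)).injective
    rw [map_natCast, h0, map_zero]
  have hm : m ≠ 0 := fun h => hk (by rw [h, Nat.cast_zero])
  obtain ⟨tr, B⟩ := BidGlobUH.exists_sheafDual_P (Sga4B.LMLS.Lam.{u} m) k d _ m
    (BidGlobHSD.algClosed (AlgebraicClosure k) m hk' d)
  exact BidBdd.hasInjectiveDimensionLT_of_ext.{u + 1} _ _
    (fun F q hq e => B.ext_eq_zero (Sga4B.DualFT.injOn_zmod m hm) hq F e)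

theorem zeroE {m : ℕ} (k : Type u) [Field k] [IsSepClosed k] (hk : (m : k) ≠ 0) (d : ℕ)
    (F : EtModW.Mod (ULift.{u + 1} (ZMod m)) (It (Spec (CommRingCat.of k)) d)) (q : ℤ) (hq : 2 * (d : ℤ) < q) :
    ZeroE F q :=
  ⟨EExt.isZero_E_of_injDim (2 * d) (injDim k hk d) F q (by push_cast; exact hq)⟩

end Groth.Agent.Sga5.H839.ItBd
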