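import Groth.Agent.Sga5.H839.SmVan
import Groth.Agent.Sga5.H839.ItBd

/-!
# Vanishing of the local `Ext` sheaves into `Z/m` on smooth schemes over a field

* `vanAt`: all germs at `x` of `H^q(RHom(F, Z/m))` vanish for `q > 2 dim O_{X,x}`;
* `vanAt_extSheaf`: the same for `EtModD.extSheaf`;
* `isZero_E`, `isZero_extSheaf`: the sheaves vanish if `q > 2 dim O_{X,x}` for all `x`.
-/

set_option autoImplicit false

universe u

open CategoryTheory CategoryTheory.Limits AlgebraicGeometry Opposite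

attribute [local instance 5000] CategoryTheory.Abelian.toPreadditive
  CategoryTheory.Preadditive.preadditiveHasZeroMorphisms

namespace Groth.Agent.Sga5.H839.Main

open scoped Groth.Agent.Sga4h.ModInst

open Groth.Agent.Sga5.H839.Germs Groth.Agent.Sga4h.BidRed538Main Groth.Agent.Sga5.H839.DualE Groth.Agent.Sga5.H839.ItVan

variable {m : ℕ} (k : Type u) [Field k] (hk : (m : k) ≠ 0) {X : Scheme.{u}}
  (a : X ⟶ Spec (CommRingCat.of k)) [Smooth a]
  (F : EtModW.Mod (ULift.{u + 1} (ZMod m)) X) (hF : EtModW.IsConstructible (ULift.{u + 1} (ZMod m)) F)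

include a hk hF

/-- All germs at `x` of `H^q(RHom(F, Z/m))` vanish for `q > 2 codim x`. -/
theorem vanE (x : X) (c : ℕ) (hc : Order.coheight x ≤ c) (q : ℤ) (hq : 2 * (c : ℤ) < q) : VanE F q x := by
  have hm : m ≠ 0 := fun h => hk (by rw [h, Nat.cast_zero])
  have : NeZero m := ⟨hm⟩
  exact SmVan.vanE_smooth (fun k _ _ hk d F q hq => ItBd.zeroE k hk d F q hq) k hk a F hF x c hc q hq

theorem vanAt (x : X) (c : ℕ) (hc : Order.coheight x ≤ c) (q : ℤ) (hq : 2 * (c : ℤ) < q) :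
    VanAt (E (stdDual (ULift.{u + 1} (ZMod m)) X) F q) x :=
  (vanE k hk a F hF x c hc q hq).out

/-- The same for the sheaves `Ext^i(F, Z/m)`. -/
theorem vanAt_extSheaf [EtModD.HasSheafHom F] (x : X) (c : ℕ) (hc : Order.coheight x ≤ c) (i : ℕ)
    (hi : 2 * c < i) :
    VanAt ((EtModD.extSheaf F i).obj (EtModW.constMod (ULift.{u + 1} (ZMod m)) X (ULift.{u + 1} (ZMod m)))) x := by
  obtain ⟨e⟩ := EExt.nonempty_iso F i i rfl
  exact (vanE k hk a F hF x c hc i (by exact_mod_cast hi)).out.of_iso e.symm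

/-- Vanishing of the sheaves. -/
theorem zeroE (N : ℕ) (hN : ∀ x : X, Order.coheight x ≤ N) (q : ℤ) (hq : 2 * (N : ℤ) < q) : ZeroE F q :=
  ⟨isZero_of_vanAt _ (fun x => (vanE k hk a F hF x N (hN x) q hq).out)⟩

theorem isZero_E (N : ℕ) (hN : ∀ x : X, Order.coheight x ≤ N) (q : ℤ) (hq : 2 * (N : ℤ) < q) :
    IsZero (E (stdDual (ULift.{u + 1} (ZMod m)) X) F q) :=
  (zeroE k hk a F hF N hN q hq).out

theorem isZero_extSheaf [EtModD.HasSheafHom F] (N : ℕ) (hN : ∀ x : X, Order.coheight x ≤ N) (i : ℕ)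
    (hi : 2 * N < i) :
    IsZero ((EtModD.extSheaf F i).obj (EtModW.constMod (ULift.{u + 1} (ZMod m)) X (ULift.{u + 1} (ZMod m)))) :=
  isZero_of_vanAt _ (fun x => vanAt_extSheaf k hk a F hF x N (hN x) i hi)

end Groth.Agent.Sga5.H839.Main
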