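import Groth.Agent.Sga4h.BidCmp538
import Groth.Agent.Sga5.H839.DualE

/-!
# The cohomology sheaves of the dual of a sheaf and limits of etale morphisms
-/

set_option autoImplicit false

universe u

open CategoryTheory CategoryTheory.Limits AlgebraicGeometry Opposite

attribute [local instance 5000] CategoryTheory.Abelian.toPreadditive
  CategoryTheory.Preadditive.preadditiveHasZeroMorphisms

namespace Groth.Agent.Sga5.H839.ELoc

attribute [local instance] HasDerivedCategory.standard
open scoped Groth.Agent.Sga4h.ModInst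
open Groth.Agent.Sga4h Groth.Agent.Sga4h.Refl DerivedCategory Groth.Agent.Sga4h.BidRed538Main
open Groth.Agent.Sga4h.BidGeoLim

variable {Λ : Type (u + 1)} [CommRing Λ]

theorem aux {X Y : Scheme.{u}} (g : Y ⟶ X) (A : DualData (EtModD.tensorBi Λ X)) (A' : DualData (EtModD.tensorBi Λ Y))
    (h : BidLoc48.Loc A A' g) (F : EtModW.Mod Λ X) (hF : EtModW.IsConstructible Λ F) (q : ℤ) :
    Nonempty ((EtModW.pull Λ g).obj (DualE.E A F q) ≅ DualE.E A' ((EtModW.pull Λ g).obj F) q) := by
  obtain ⟨e⟩ := h.iso ((CochainComplex.singleFunctor (EtModW.Mod Λ X) 0).obj F)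
    ((Dbc323.isDbc_Q_single_iff F 0).2 hF) q
  obtain ⟨e'⟩ := DualE.nonempty_iso_map (EtModW.pull Λ g) A' F _ (Iso.refl _) q
  rw [DualE.E_eq A F q]
  exact ⟨e ≪≫ e'⟩

/-- `E` commutes with inverse images along cofiltered limits of affine etale schemes. -/
theorem nonempty_iso [IsNoetherianRing Λ] {X Y : Scheme.{u}} [IsNoetherian X] (g : Y ⟶ X) (hg : IsEtLim g)
    (F : EtModW.Mod Λ X) (hF : EtModW.IsConstructible Λ F) (q : ℤ) :
    Nonempty ((EtModW.pull Λ g).obj (DualE.E (stdDual Λ X) F q) ≅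
      DualE.E (stdDual Λ Y) ((EtModW.pull Λ g).obj F) q) :=
  aux g (stdDual Λ X) (stdDual Λ Y) (BidCmp538.loc (Λ := Λ) X Y g inferInstance hg) F hF q

end Groth.Agent.Sga5.H839.ELoc
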