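import Groth.Agent.Sga4h.BidEtLocal
import Groth.Agent.Sga4h.BidRed538Main
import Groth.Agent.Sga5.H839.DualE

/-!
# The cohomology sheaves of the dual of a sheaf and etale morphisms
-/

set_option autoImplicit false

universe u

open CategoryTheory CategoryTheory.Limits AlgebraicGeometry Opposite

attribute [local instance 5000] CategoryTheory.Abelian.toPreadditive
  CategoryTheory.Preadditive.preadditiveHasZeroMorphisms

namespace Groth.Agent.Sga5.H839.ERes

attribute [local instance] HasDerivedCategory.standard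
open scoped Groth.Agent.Sga4h.ModInst
open Groth.Agent.Sga4h Groth.Agent.Sga4h.Refl DerivedCategory Groth.Agent.Sga4h.BidRed538Main
open Groth.Agent.Sga4h.BidEtSh

variable {Λ : Type (u + 1)} [CommRing Λ]

theorem aux {X U : Scheme.{u}} (j : U ⟶ X) [Etale j] (A : DualData (EtModD.tensorBi Λ X))
    (i : unitCx Λ X ⟶ A.J) (hi : QuasiIso i) (A' : DualData (EtModD.tensorBi Λ U))
    (i' : unitCx Λ U ⟶ A'.J) (hi' : QuasiIso i') (F : EtModW.Mod Λ X) (q : ℤ) :
    Nonempty ((resM Λ j).obj (DualE.E A F q) ≅ DualE.E A' ((resM Λ j).obj F) q) := by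
  obtain ⟨f, hf⟩ := BidEtLocal.exists_quasiIso_res_D j A i hi A' i' hi'
    ((CochainComplex.singleFunctor (EtModW.Mod Λ X) 0).obj F)
  exact DualE.nonempty_iso_of_quasiIso (resM Λ j) A A' F _ (Iso.refl _) f hf q

/-- `E` commutes with restriction along etale morphisms. -/
theorem nonempty_iso_resM {X U : Scheme.{u}} (j : U ⟶ X) [Etale j] (F : EtModW.Mod Λ X) (q : ℤ) :
    Nonempty ((resM Λ j).obj (DualE.E (stdDual Λ X) F q) ≅ DualE.E (stdDual Λ U) ((resM Λ j).obj F) q) :=
  aux j (stdDual Λ X) (stdι Λ X) (quasiIso_stdι Λ X) (stdDual Λ U) (stdι Λ U) (quasiIso_stdι Λ U) F q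

end Groth.Agent.Sga5.H839.ERes
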