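import Groth.Agent.Sga5.H839.ItVan
import Groth.Agent.Sga5.H839.ERes
import Groth.Agent.Sga4h.BidRed538Retr

/-!
# Vanishing of the germs of the local `Ext` sheaves into the constant sheaf on smooth schemes over a field
-/

set_option autoImplicit false

universe u

open CategoryTheory CategoryTheory.Limits AlgebraicGeometry Opposite

attribute [local instance 5000] CategoryTheory.Abelian.toPreadditive
  CategoryTheory.Preadditive.preadditiveHasZeroMorphisms

namespace Groth.Agent.Sga5.H839.SmVan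

open scoped Groth.Agent.Sga4h.ModInst

open Groth.Agent.Sga4h Groth.Agent.Sga4h.BidGeoIt Groth.Agent.Sga4h.BidGeoLim Groth.Agent.Sga5.H839.Germs
open Groth.Agent.Sga5.H839.DimLim Groth.Agent.Sga5.H839.ItVan Groth.Agent.Sga4h.ModRestr
open Groth.Agent.Sga4h.BidRed538Main Groth.Agent.Sga5.H839.DualE

variable {Λ : Type (u + 1)} [CommRing Λ]

/-- `E` commutes with restriction along etale morphisms. -/
theorem nonempty_iso_pull {X U : Scheme.{u}} (j : U ⟶ X) [Etale j] (F : EtModW.Mod Λ X) (q : ℤ) :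
    Nonempty ((EtModW.pull Λ j).obj (E (stdDual Λ X) F q) ≅ E (stdDual Λ U) ((res Λ j).obj F) q) := by
  obtain ⟨e⟩ := ERes.nonempty_iso_resM j F q
  exact ⟨(ExtFree.pullIsoRes j).app _ ≪≫ e⟩

theorem vanE_of_res {X U : Scheme.{u}} (j : U ⟶ X) [Etale j] (F : EtModW.Mod Λ X) (q : ℤ) (y : U)
    (h : VanE ((res Λ j).obj F) q y) : VanE F q (j y) := by
  obtain ⟨e⟩ := nonempty_iso_pull j F q
  exact ⟨vanAt_of_pull j _ y (h.out.of_iso e)⟩

theorem vanE_res {X U : Scheme.{u}} (j : U ⟶ X) [Etale j] (F : EtModW.Mod Λ X) (q : ℤ) (y : U)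
    (h : VanE F q (j y)) : VanE ((res Λ j).obj F) q y := by
  obtain ⟨e⟩ := nonempty_iso_pull j F q
  exact ⟨(h.out.pull j).of_iso e.symm⟩

/-- **Vanishing on smooth schemes.** -/
theorem vanE_smooth [Finite Λ] {m : ℕ}
    (hSD : ∀ (k : Type u) [Field k] [IsSepClosed k], (m : k) ≠ 0 → ∀ (d : ℕ)
      (F : EtModW.Mod Λ (It (Spec (CommRingCat.of k)) d)) (q : ℤ), 2 * (d : ℤ) < q → ZeroE F q)
    (k : Type u) [Field k] (hk : (m : k) ≠ 0) {X : Scheme.{u}} (a : X ⟶ Spec (CommRingCat.of k)) [Smooth a]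
    (F : EtModW.Mod Λ X) (hF : EtModW.IsConstructible Λ F) (x : X) (c : ℕ) (hc : Order.coheight x ≤ c)
    (q : ℤ) (hq : 2 * (c : ℤ) < q) : VanE F q x := by
  have : IsNoetherianRing Λ := inferInstance
  obtain ⟨n, U, j, w, h1, h2, ⟨x', rfl⟩, h4, h5⟩ := BidRed538Geo.exists_coord a x
  apply vanE_of_res
  let w' : U ⟶ It (Spec (CommRingCat.of k)) n := w ≫ (BidGeoCmp.isoP _ n).inv
  have hw' : Etale w' := inferInstance
  have hN := isNoetherian_It k n
  have hs : IsSeparated w' := BidRed538Geo.isSeparated_of_isAffine w'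
  have hF' : EtModW.IsConstructible Λ ((res Λ j).obj F) :=
    Etrest.ModCons.isConstructible_of_iso ((ExtFree.pullIsoRes j).app F)
      (Etcore.LCrit.isConstructible_pull j F hF)
  obtain ⟨i, r, hir⟩ := BidRed538Retr.exists_retract w' ((res Λ j).obj F)
  have hG : EtModW.IsConstructible Λ ((ext Λ w').obj ((res Λ j).obj F)) :=
    BidRed538Ext.isConstructible_ext w' _ hF'
  refine VanE.of_retract i r hir q (vanE_res w' _ q x' (vanE_It hSD n k hk _ hG (w' x') c ?_ q hq))
  refine le_trans ?_ hc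
  refine (coheight_apply_le w' (Flat.generalizingMap w') x').trans ?_
  exact (coheight_eq_of_isOpenImmersion j (x := x')).ge

end Groth.Agent.Sga5.H839.SmVan
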